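import Groth.Agent.AbQP57.Homotopy
import Groth.Agent.S2618
import Groth.Agent.Props58.J2
import Groth.Agent.RegUFD52.Basic
import Groth.Agent.CAlg1.Regular
import Groth.Agent.Curves2.Ufd.Main
import Groth.Agent.CAlg6.FlatHartogs
import Groth.Agent.ParaF26.Prod.Normal
import Groth.Agent.VB30.FrobBound
import Mathlib.RingTheory.RegularLocalRing.Polynomial

/-! Invertible modules on a product of a normal variety and an open of affine space. -/

set_option autoImplicit false
set_option maxSynthPendingDepth 6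
set_option linter.style.haveILetI false
set_option backward.isDefEq.respectTransparency.types false

universe u

noncomputable section

open CategoryTheory CategoryTheory.Limits AlgebraicGeometry TopologicalSpace Opposite

namespace Groth.Agent.PicHom75

theorem isJ2_field (k : Type u) [Field k] (U : (Spec (CommRingCat.of k)).Opens) (hU : U = ⊤) :
    EGA4.IsJ2 Γ(Spec (CommRingCat.of k), U) := by
  subst hU
  intro S _ _ hS
  let e := (Scheme.ΓSpecIso (CommRingCat.of k)).symm.commRingCatIsoToRingEquiv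
  letI : Algebra k S := ((algebraMap Γ(Spec (CommRingCat.of k), ⊤) S).comp e.toRingHom).toAlgebra
  haveI : Algebra.FiniteType k S := RingHom.FiniteType.comp
    (RingHom.finiteType_algebraMap.2 hS) (RingHom.FiniteType.of_surjective e.toRingHom e.surjective)
  exact S2618.result k S

variable {k : Type u} [Field k] {X : Scheme.{u}} (f : X ⟶ Spec (CommRingCat.of k))

/-- On a normal scheme of finite type over a field the regular locus is open and big. -/
theorem exists_regular_big_open [LocallyOfFiniteType f] (hN : Pi1.IsNormalScheme X) :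
    ∃ W : X.Opens, (∀ x : X, x ∈ W → IsRegularLocalRing (X.presheaf.stalk x)) ∧
      ∀ x : X, ringKrullDim (X.presheaf.stalk x) ≤ 1 → x ∈ W := by
  haveI : IsLocallyNoetherian X := LocallyOfFiniteType.isLocallyNoetherian f
  refine ⟨⟨_, Props58.J2.j2_of_cover (Spec (CommRingCat.of k))
    (fun _ => ⟨⟨⊤, isAffineOpen_top _⟩, trivial, isJ2_field k ⊤ rfl⟩) X f⟩, fun x hx => hx, fun x hx => ?_⟩
  show IsRegularLocalRing (X.presheaf.stalk x)
  haveI := (hN x).1
  haveI := (hN x).2
  by_cases h0 : (1 : WithBot ℕ∞) ≤ ringKrullDim (X.presheaf.stalk x)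
  · exact (ParaF26.Prod.regular_of_normal_dim_one h0 fun h2 => absurd (h2.trans hx) (by norm_num)).1
  · have hz : ringKrullDim (X.presheaf.stalk x) ≤ 0 := by
      have h := not_le.1 h0
      revert h
      induction ringKrullDim (X.presheaf.stalk x) using WithBot.recBotCoe with
      | bot => exact fun _ => bot_le
      | coe a => exact fun h => WithBot.coe_le_coe.2 (Order.lt_one_iff.1 (WithBot.coe_lt_coe.1 h)).le
    haveI : Ring.KrullDimLE 0 (X.presheaf.stalk x) := Ring.krullDimLE_iff.2 hz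
    have hf : IsField (X.presheaf.stalk x) := IsLocalRing.isField_iff_maximalIdeal_eq.2 (IsLocalRing.eq_maximalIdeal
      (Ring.krullDimLE_zero_iff.1 inferInstance ⊥ Ideal.isPrime_bot)).symm
    letI := hf.toField
    infer_instance

/-- Affine space over a regular scheme is regular. -/
theorem isRegularLocalRing_affineSpace {Y : Scheme.{u}} [IsLocallyNoetherian Y]
    (hY : ∀ y : Y, IsRegularLocalRing (Y.presheaf.stalk y)) {n : Type u} [Finite n] (z : ↥(AffineSpace n Y)) :
    IsRegularLocalRing ((AffineSpace n Y).presheaf.stalk z) := by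
  let y := AbQP57.pr n Y z
  obtain ⟨V, hV, hyV, -⟩ := exists_isAffineOpen_mem_and_subset (x := y) (U := (⊤ : Y.Opens)) trivial
  let φ := hV.fromSpec
  haveI : IsNoetherianRing Γ(Y, V) := IsLocallyNoetherian.component_noetherian ⟨V, hV⟩
  haveI hreg : IsRegularRing Γ(Y, V) := isRegularRing_iff.2 fun p _ =>
    (Props58.J2.preimage_regular hV).le (show (⟨p, inferInstance⟩ : PrimeSpectrum Γ(Y, V)) ∈
      hV.fromSpec ⁻¹' {y : Y | IsRegularLocalRing (Y.presheaf.stalk y)} from hY _)
  haveI : IsRegularRing (MvPolynomial n Γ(Y, V)) := MvPolynomial.isRegularRing_of_isRegularRing Γ(Y, V)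
  have hr : z ∈ (AbQP57.chart (n := n) φ).opensRange := AbQP57.preimage_opensRange_le φ
    (show y ∈ φ.opensRange by rw [hV.opensRange_fromSpec]; exact hyV)
  obtain ⟨w, rfl⟩ := hr
  haveI : IsRegularLocalRing ((Spec (CommRingCat.of (MvPolynomial n Γ(Y, V)))).presheaf.stalk w) :=
    (Props58.J2.regLocus_spec (CommRingCat.of (MvPolynomial n Γ(Y, V)))).ge
      (show w ∈ EGA4.regLocus (MvPolynomial n Γ(Y, V)) from IsRegularRing.isRegularLocalRing_localization _)
  exact IsRegularLocalRing.of_ringEquiv (asIso ((AbQP57.chart (n := n) φ).stalkMap w)).symm.commRingCatIsoToRingEquiv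

theorem isDomain_and_ufm (R : Type u) [CommRing R] [IsRegularLocalRing R] :
    IsDomain R ∧ UniqueFactorizationMonoid R := by
  haveI := CAlg1.isDomain_regular R
  exact ⟨inferInstance, RegUFD52.ufm_of_regular R⟩

/-- Isomorphisms of invertible modules extend from big opens of normal schemes. -/
theorem nonempty_iso_of_big {X : Scheme.{u}} [IsNoetherian X] (hN : Pi1.IsNormalScheme X) {W : X.Opens}
    (hW : ∀ x : X, ringKrullDim (X.presheaf.stalk x) ≤ 1 → x ∈ W) {L M : X.Modules}
    (hL : PicF.IsInvertible L) (hM : PicF.IsInvertible M)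
    (e : (Scheme.Modules.pullback W.ι).obj L ≅ (Scheme.Modules.pullback W.ι).obj M) : Nonempty (L ≅ M) := by
  have hfl : ∀ {A : X.Modules}, PicF.IsInvertible A →
      IsIso ((Scheme.Modules.restrictAdjunction W.ι).unit.app A) := fun {A} hA =>
    CAlg6.FlatHartogs.isIso_unit hN A (Mero90.isQCoh_of_isInvertible hA)
      (VB30.isFlat_of_lf (VB30.isFinLocFree_of_rank (Mero90.isFinLocFreeOfRank_of_isInvertible hA))) W hW
  haveI := hfl hL
  haveI := hfl hM
  let r := Scheme.Modules.restrictFunctorIsoPullback W.ι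
  exact ⟨asIso ((Scheme.Modules.restrictAdjunction W.ι).unit.app L) ≪≫
    (Scheme.Modules.pushforward W.ι).mapIso (r.app L ≪≫ e ≪≫ (r.app M).symm) ≪≫
    (asIso ((Scheme.Modules.restrictAdjunction W.ι).unit.app M)).symm⟩

section Main

variable {n : Type u} [Finite n] (U : (AffineSpace n (Spec (CommRingCat.of k))).Opens)
  (L : (pullback f (U.ι ≫ AbQP57.pr n (Spec (CommRingCat.of k)))).Modules)

set_option maxHeartbeats 1000000 in
/-- Sections through rational points of the open pull an invertible module back to isomorphic modules. -/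
theorem nonempty_iso_of_rationalPoints [IsNoetherian X] [LocallyOfFiniteType f] (hN : Pi1.IsNormalScheme X)
    (p q : Spec (CommRingCat.of k) ⟶ (U : Scheme.{u}))
    (hp : p ≫ U.ι ≫ AbQP57.pr n _ = 𝟙 _) (hq : q ≫ U.ι ≫ AbQP57.pr n _ = 𝟙 _)
    (σp σq : X ⟶ pullback f (U.ι ≫ AbQP57.pr n (Spec (CommRingCat.of k))))
    (hσp₁ : σp ≫ pullback.fst _ _ = 𝟙 X) (hσp₂ : σp ≫ pullback.snd _ _ = f ≫ p)
    (hσq₁ : σq ≫ pullback.fst _ _ = 𝟙 X) (hσq₂ : σq ≫ pullback.snd _ _ = f ≫ q)
    (hL : PicF.IsInvertible L) :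
    Nonempty ((Scheme.Modules.pullback σp).obj L ≅ (Scheme.Modules.pullback σq).obj L) := by
  obtain ⟨W, hreg, hbig⟩ := exists_regular_big_open f hN
  refine nonempty_iso_of_big hN hbig (Amp73.isInvertible_pullback σp hL) (Amp73.isInvertible_pullback σq hL)
    (Nonempty.some ?_)
  have hregW : ∀ y : W.toScheme, IsRegularLocalRing (W.toScheme.presheaf.stalk y) := fun y =>
    haveI : IsRegularLocalRing (X.presheaf.stalk y.1) := hreg y.1 y.2
    IsRegularLocalRing.of_ringEquiv (W.stalkIso y).symm.commRingCatIsoToRingEquiv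
  let T := AffineSpace n W.toScheme
  let w : W.toScheme ⟶ Spec (CommRingCat.of k) := W.ι ≫ f
  let m : T ⟶ AffineSpace n (Spec (CommRingCat.of k)) := AffineSpace.map n w
  haveI : LocallyOfFiniteType (AbQP57.pr n W.toScheme) := inferInstance
  haveI : IsLocallyNoetherian T := LocallyOfFiniteType.isLocallyNoetherian (AbQP57.pr n W.toScheme)
  let U' : T.Opens := m ⁻¹ᵁ U
  let j : U'.toScheme ⟶ pullback f (U.ι ≫ AbQP57.pr n (Spec (CommRingCat.of k))) :=
    pullback.lift (U'.ι ≫ AbQP57.pr n W.toScheme ≫ W.ι) (m ∣_ U) (by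
      rw [Category.assoc, Category.assoc, morphismRestrict_ι_assoc, AffineSpace.map_over])
  obtain ⟨L', hL', ⟨eL'⟩⟩ := Curves2.Ufd.exists_extension U' ((Scheme.Modules.pullback j).obj L)
    (Amp73.isInvertible_pullback j hL) fun z _ =>
      haveI := isRegularLocalRing_affineSpace hregW z
      (isDomain_and_ufm _).2
  have key : ∀ (r : Spec (CommRingCat.of k) ⟶ (U : Scheme.{u})) (σ : X ⟶ pullback f (U.ι ≫ AbQP57.pr n _)),
      r ≫ U.ι ≫ AbQP57.pr n _ = 𝟙 _ → σ ≫ pullback.fst _ _ = 𝟙 X → σ ≫ pullback.snd _ _ = f ≫ r →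
      ∃ t : W.toScheme ⟶ T, t ≫ AbQP57.pr n _ = 𝟙 _ ∧
        Nonempty ((Scheme.Modules.pullback W.ι).obj ((Scheme.Modules.pullback σ).obj L) ≅
          (Scheme.Modules.pullback t).obj L') := by
    intro r σ hr h1 h2
    let t : W.toScheme ⟶ T := (AffineSpace.isPullback_map (n := n) w).lift (w ≫ r ≫ U.ι) (𝟙 _)
      (by
        have hr' : (r ≫ U.ι) ≫ AbQP57.pr n _ = 𝟙 _ := (Category.assoc _ _ _).trans hr
        rw [Category.assoc]
        erw [hr']
        rw [Category.comp_id, Category.id_comp])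
    have ht₁ : t ≫ m = w ≫ r ≫ U.ι := IsPullback.lift_fst _ _ _ _
    have ht₂ : t ≫ AbQP57.pr n _ = 𝟙 _ := IsPullback.lift_snd _ _ _ _
    have hrange : Set.range t ⊆ Set.range U'.ι := by
      rw [Scheme.Opens.range_ι]
      rintro _ ⟨a, rfl⟩
      show m (t a) ∈ U
      rw [← Scheme.Hom.comp_apply, ht₁]
      exact (r (w a)).2
    let t' := IsOpenImmersion.lift U'.ι t hrange
    have ht' : t' ≫ U'.ι = t := IsOpenImmersion.lift_fac _ _ _
    have hj : t' ≫ j = W.ι ≫ σ := by
      apply pullback.hom_ext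
      · rw [Category.assoc, Category.assoc, pullback.lift_fst, h1, Category.comp_id, ← Category.assoc t', ht',
          ← Category.assoc t, ht₂, Category.id_comp]
      · rw [Category.assoc, Category.assoc, pullback.lift_snd, h2, ← cancel_mono U.ι, Category.assoc,
          morphismRestrict_ι, ← Category.assoc t', ht', ht₁]
        simp only [w, Category.assoc]
    refine ⟨t, ht₂, ⟨(Scheme.Modules.pullbackComp W.ι σ).app L ≪≫ (Scheme.Modules.pullbackCongr hj.symm).app L ≪≫
      ((Scheme.Modules.pullbackComp t' j).app L).symm ≪≫ (Scheme.Modules.pullback t').mapIso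
        (eL'.symm ≪≫ (Scheme.Modules.restrictFunctorIsoPullback U'.ι).app L') ≪≫
      (Scheme.Modules.pullbackComp t' U'.ι).app L' ≪≫ (Scheme.Modules.pullbackCongr ht').app L'⟩⟩
  obtain ⟨tp, htp, ⟨ep⟩⟩ := key p σp hp hσp₁ hσp₂
  obtain ⟨tq, htq, ⟨eq'⟩⟩ := key q σq hq hσq₁ hσq₂
  have hY : ∀ y : W.toScheme, IsDomain (W.toScheme.presheaf.stalk y) ∧
      UniqueFactorizationMonoid (W.toScheme.presheaf.stalk y) := fun y =>
    haveI := hregW y
    isDomain_and_ufm _
  obtain ⟨a⟩ := AbQP57.nonempty_pullback_section_iso hY L' hL' tp htp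
  obtain ⟨b⟩ := AbQP57.nonempty_pullback_section_iso hY L' hL' tq htq
  exact ⟨ep ≪≫ a ≪≫ b.symm ≪≫ eq'.symm⟩

end Main

end Groth.Agent.PicHom75

end
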